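import Groth.Agent.Lib.AlgStack.AutSpace

/-!
# Sections of the automorphism space of a point as automorphisms
-/

set_option autoImplicit false
set_option backward.isDefEq.respectTransparency false
set_option backward.isDefEq.respectTransparency.types false

universe u

open CategoryTheory CategoryTheory.Limits AlgebraicGeometry Opposite

noncomputable section

namespace Groth.Agent.H14.Stab

open Groth.Agent.Lib.AlgSpace
open Groth.Agent.Lib.AlgStack
open FibCat (IsEquivOver IsFibGrpd fp fpFst overCat toSelf inertia inertiaToBase)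
open AlgSt (ofSp)
open AlgSp (Sp yon)
open BasedBasic

variable {S : Scheme.{u}} {𝒳 : AlgSt.Cat S} {U : Over S} {x : overCat U ⥤ᵇ 𝒳}

/-- An endomorphism over the identity as an automorphism over the identity. -/
def mkAut (h : IsFibGrpd 𝒳.p) {z : 𝒳.obj} (θ : z ⟶ z) (hθ : 𝒳.p.map θ = 𝟙 _) : Gerb.AutO z :=
  have hl : 𝒳.p.IsHomLift (𝟙 (𝒳.p.obj z)) θ := hθ ▸ IsHomLift.map 𝒳.p θ
  haveI := isIso_of_isHomLift_id h (R := 𝒳.p.obj z) θ
  { hom := ⟨θ, hl⟩
    inv := ⟨inv θ,
      haveI : 𝒳.p.IsHomLift (𝟙 (𝒳.p.obj z)) (asIso θ).hom := hl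
      IsHomLift.lift_id_inv _ _ (asIso θ)⟩
    hom_inv_id := Functor.Fiber.hom_ext (IsIso.hom_inv_id _)
    inv_hom_id := Functor.Fiber.hom_ext (IsIso.inv_hom_id _) }

theorem mkAut_hom (h : IsFibGrpd 𝒳.p) {z : 𝒳.obj} (θ : z ⟶ z) (hθ : 𝒳.p.map θ = 𝟙 _) :
    (mkAut h θ hθ).hom.1 = θ := rfl

variable {A : AlgSp.Space S} (E : ofSp A.obj ⥤ᵇ fp x (inertiaToBase (toSelf 𝒳)))

/-- The sections over an object of the slice. -/
abbrev Sc (u : Over U) :=
  {c : (yon S).obj u.left ⟶ A.obj // c ≫ AutSpace.gam E = (yon S).map u.hom}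

variable {E}

/-- The point of a section. -/
abbrev pnt {u : Over U} (c : Sc E u) : (ofSp A.obj).obj := ⟨u.left, secEquiv u.left c.1⟩

theorem baseF_hom {u : Over U} (c : Sc E u) :
    ((AutSpace.baseF E).obj (pnt c)).hom = u.hom :=
  congrArg ULift.down ((secEquiv_comp c.1 (AutSpace.gam E)).symm.trans (congrArg (secEquiv u.left) c.2))

/-- The comparison with the value of the base map. -/
def cmp {u : Over U} (c : Sc E u) : u ≅ (AutSpace.baseF E).obj (pnt c) :=
  Over.isoMk (Iso.refl _) ((Category.id_comp _).trans (baseF_hom c))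

theorem cmp_left {u : Over U} (c : Sc E u) : (cmp c).hom.left = 𝟙 u.left := rfl

/-- The endomorphism of a section. -/
def endo {u : Over U} (c : Sc E u) : x.obj u ⟶ x.obj u :=
  x.map (cmp c).hom ≫ AutSpace.sTheta E (pnt c) ≫ x.map (cmp c).inv

theorem map_endo {u : Over U} (c : Sc E u) : 𝒳.p.map (endo c) = 𝟙 _ := by
  simp only [endo, Functor.map_comp]
  erw [AutSpace.map_sTheta, Category.id_comp]
  rw [← Functor.map_comp, ← Functor.map_comp, Iso.hom_inv_id, CategoryTheory.Functor.map_id,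
    CategoryTheory.Functor.map_id]

variable (h : IsFibGrpd 𝒳.p)

/-- The automorphism of a section. -/
def aut {u : Over U} (c : Sc E u) : Gerb.AutO (x.obj u) := mkAut h (endo c) (map_endo c)

/-- Restriction of sections. -/
def restr {u' u : Over U} (k : u' ⟶ u) (c : Sc E u) : Sc E u' :=
  ⟨(yon S).map k.left ≫ c.1, by rw [Category.assoc, c.2, ← Functor.map_comp, Over.w k]⟩

theorem aut_natural {u' u : Over U} (k : u' ⟶ u) (c : Sc E u) :
    (aut h (restr k c)).hom.1 ≫ x.map k = x.map k ≫ (aut h c).hom.1 := by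
  change endo (restr k c) ≫ x.map k = x.map k ≫ endo c
  let m : pnt (restr k c) ⟶ pnt c := ⟨k.left, (secEquiv_map k.left c.1).symm⟩
  have hk : (cmp (restr k c)).hom ≫ (AutSpace.baseF E).map m = k ≫ (cmp c).hom := by
    apply Over.OverMorphism.ext
    change 𝟙 _ ≫ ((AutSpace.baseF E).map m).left = k.left ≫ 𝟙 _
    rw [Category.id_comp, Category.comp_id]
    rfl
  have hk' : (cmp (restr k c)).inv ≫ k = (AutSpace.baseF E).map m ≫ (cmp c).inv := by
    rw [Iso.inv_comp_eq, reassoc_of% hk, Iso.hom_inv_id, Category.comp_id]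
  simp only [endo, Category.assoc]
  rw [← Functor.map_comp x.toFunctor _ k, hk', Functor.map_comp,
    ← reassoc_of% AutSpace.sTheta_natural E m, ← Functor.map_comp_assoc, hk, Functor.map_comp_assoc]

include h in
/-- An automorphism restricts in at most one way. -/
theorem aut_ext {u' u : Over U} (k : u' ⟶ u) (a b : Gerb.AutO (x.obj u'))
    (hab : a.hom.1 ≫ x.map k = b.hom.1 ≫ x.map k) : a = b :=
  Aut.ext (Functor.Fiber.hom_ext (AutSpace.hom_ext_cart h _ _ (x.map k)
    ((AutSpace.map_autO _).trans (AutSpace.map_autO _).symm) hab))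

theorem aut_injective (hE : IsEquivOver E) {u : Over U} : Function.Injective (aut h (E := E) (u := u)) := by
  intro c c' hcc
  have hn : endo c = endo c' := congrArg (fun a => a.hom.1) hcc
  apply Subtype.ext
  let ξ := pnt c
  let ξ' := pnt c'
  let q : (AutSpace.baseF E).obj ξ ⟶ (AutSpace.baseF E).obj ξ' := (cmp c).inv ≫ (cmp c').hom
  have hq : AutSpace.sTheta E ξ ≫ x.map q = x.map q ≫ AutSpace.sTheta E ξ' := by
    rw [← cancel_epi (x.map (cmp c).hom), ← cancel_mono (x.map (cmp c').inv)]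
    simp only [endo] at hn
    simp only [q, Functor.map_comp, Category.assoc]
    rw [← Functor.map_comp x.toFunctor (cmp c').hom, Iso.hom_inv_id, CategoryTheory.Functor.map_id,
      Category.comp_id, ← Functor.map_comp_assoc x.toFunctor (cmp c).hom (cmp c).inv, Iso.hom_inv_id,
      CategoryTheory.Functor.map_id, Category.id_comp]
    exact hn
  let fst : (E.obj ξ).obj.fst ⟶ (E.obj ξ').obj.fst :=
    (appIso (AutSpace.iota E) ξ).hom ≫ q ≫ (appIso (AutSpace.iota E) ξ').inv
  have ht : AutSpace.theta (E.obj ξ) ≫ x.map fst = x.map fst ≫ AutSpace.theta (E.obj ξ') := by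
    have h1 : AutSpace.theta (E.obj ξ) ≫ x.map (appIso (AutSpace.iota E) ξ).hom =
        x.map (appIso (AutSpace.iota E) ξ).hom ≫ AutSpace.sTheta E ξ := by
      rw [AutSpace.sTheta, ← Functor.map_comp_assoc, Iso.hom_inv_id, CategoryTheory.Functor.map_id,
        Category.id_comp]
    have h2 : AutSpace.sTheta E ξ' ≫ x.map (appIso (AutSpace.iota E) ξ').inv =
        x.map (appIso (AutSpace.iota E) ξ').inv ≫ AutSpace.theta (E.obj ξ') := by
      rw [AutSpace.sTheta, Category.assoc, Category.assoc, ← Functor.map_comp, Iso.hom_inv_id,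
        CategoryTheory.Functor.map_id, Category.comp_id]
    simp only [fst, Functor.map_comp, Category.assoc]
    rw [reassoc_of% h1, reassoc_of% hq, h2]
  have := BasedBasic.IsEquivOver.full hE
  let i := (E.obj ξ).obj.iso
  let i' := (E.obj ξ').obj.iso
  let sn : (E.obj ξ).obj.snd ⟶ (E.obj ξ').obj.snd := ⟨i.inv ≫ x.map fst ≫ i'.hom, by
    have := congrArg (fun t => i.inv ≫ t ≫ i'.hom) ht
    simpa [AutSpace.theta, i, i'] using this⟩
  let M : E.obj ξ ⟶ E.obj ξ' := FibProd.homMk fst sn (by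
    change x.map fst ≫ i'.hom = i.hom ≫ i.inv ≫ x.map fst ≫ i'.hom
    rw [Iso.hom_inv_id_assoc])
  obtain ⟨n, hn'⟩ := E.toFunctor.map_surjective M
  have hh : (AutSpace.baseF E).map n = q := by
    rw [← cancel_epi (appIso (AutSpace.iota E) ξ).hom]
    refine ((AutSpace.iota E).hom.toNatTrans.naturality n).symm.trans ?_
    change (E.map n).hom.fst ≫ (appIso (AutSpace.iota E) ξ').hom = _
    rw [hn']
    change ((appIso (AutSpace.iota E) ξ).hom ≫ q ≫ (appIso (AutSpace.iota E) ξ').inv) ≫ _ = _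
    simp only [Category.assoc, Iso.inv_hom_id, Category.comp_id]
  have h3 : n.hom = 𝟙 u.left := (congrArg (fun k => k.left) hh).trans (Category.id_comp _)
  have h4 := n.map_sec
  rw [h3, op_id] at h4
  erw [CategoryTheory.Functor.map_id] at h4
  exact (secEquiv u.left).injective h4.symm

theorem aut_surjective (hE : IsEquivOver E) {u : Over U} : Function.Surjective (aut h (E := E) (u := u)) := by
  intro α
  obtain ⟨o, he, ho⟩ := AutSpace.exists_obj (x := x) h u α
  obtain ⟨ξ, j, hj⟩ := BasedBasic.IsEquivOver.exists_iso hE o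
  have hj' : (fp x (inertiaToBase (toSelf 𝒳))).p.IsHomLift
      (𝟙 ((fp x (inertiaToBase (toSelf 𝒳))).p.obj o)) j.hom := hj
  have hT : ξ.base = u.left := ((E.w_obj ξ).symm.trans
    (IsHomLift.domain_eq (fp x (inertiaToBase (toSelf 𝒳))).p (𝟙 ((fp x (inertiaToBase (toSelf 𝒳))).p.obj o)) j.hom)).trans
      (congrArg (fun b : Over U => b.left) he)
  obtain ⟨b, sec⟩ := ξ
  obtain rfl : b = u.left := hT
  let ξ : (ofSp A.obj).obj := ⟨u.left, sec⟩
  let q : (AutSpace.baseF E).obj ξ ⟶ u := (appIso (AutSpace.iota E) ξ).inv ≫ j.hom.hom.fst ≫ eqToHom he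
  have hq : q.left = 𝟙 u.left := by
    have h1 : (overCat U).p.IsHomLift (𝟙 ξ.base) (appIso (AutSpace.iota E) ξ).hom :=
      appIso_isHomLift (AutSpace.iota E) ξ
    have h2 := IsHomLift.lift_id_inv (overCat U).p ξ.base (appIso (AutSpace.iota E) ξ)
    have f1 := IsHomLift.fac' (overCat U).p (𝟙 ξ.base) (appIso (AutSpace.iota E) ξ).inv
    have f2 := IsHomLift.fac' (fp x (inertiaToBase (toSelf 𝒳))).p (𝟙 ((fp x (inertiaToBase (toSelf 𝒳))).p.obj o)) j.hom
    change (appIso (AutSpace.iota E) ξ).inv.left = _ at f1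
    change j.hom.hom.fst.left = _ at f2
    change (appIso (AutSpace.iota E) ξ).inv.left ≫ j.hom.hom.fst.left ≫ (eqToHom he).left = _
    rw [f1, f2, Over.eqToHom_left]
    simp [ξ]
    rfl
  let c₁ : (yon S).obj u.left ⟶ A.obj := (secEquiv u.left).symm sec
  have hb : ((AutSpace.baseF E).obj ⟨u.left, sec⟩).hom = u.hom := by
    have hw := Over.w q
    rw [hq] at hw
    exact hw.symm.trans (Category.id_comp _)
  have hc : c₁ ≫ AutSpace.gam E = (yon S).map u.hom := by
    apply (secEquiv u.left).injective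
    rw [secEquiv_comp, Equiv.apply_symm_apply]
    exact congrArg ULift.up hb
  refine ⟨⟨c₁, hc⟩, ?_⟩
  let m : pnt (⟨c₁, hc⟩ : Sc E u) ⟶ ⟨u.left, sec⟩ := ⟨𝟙 _, by
    rw [op_id]
    erw [CategoryTheory.Functor.map_id]
    exact ((secEquiv u.left).apply_symm_apply sec).symm⟩
  have hm : (cmp (⟨c₁, hc⟩ : Sc E u)).hom ≫ (AutSpace.baseF E).map m ≫ q = 𝟙 u := by
    apply Over.OverMorphism.ext
    change 𝟙 _ ≫ ((AutSpace.baseF E).map m).left ≫ q.left = 𝟙 _
    rw [hq]
    change 𝟙 _ ≫ 𝟙 _ ≫ 𝟙 _ = 𝟙 _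
    simp
  have hstep : AutSpace.sTheta E ⟨u.left, sec⟩ ≫ x.map q = x.map q ≫ α.hom.1 := by
    rw [AutSpace.sTheta]
    simp only [q, Functor.map_comp, Category.assoc, ho]
    rw [← Functor.map_comp_assoc x.toFunctor _ (appIso (AutSpace.iota E) ⟨u.left, sec⟩).inv, Iso.hom_inv_id,
      CategoryTheory.Functor.map_id, Category.id_comp, ← reassoc_of% AutSpace.theta_natural j.hom]
  refine aut_ext h (𝟙 u) _ _ ?_
  rw [CategoryTheory.Functor.map_id, Category.comp_id, Category.comp_id]
  change endo _ = α.hom.1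
  rw [endo, ← cancel_mono (𝟙 (x.obj u))]
  simp only [Category.comp_id]
  have e : x.map (cmp (⟨c₁, hc⟩ : Sc E u)).inv = x.map ((AutSpace.baseF E).map m ≫ q) := by
    congr 1
    rw [← cancel_epi (cmp (⟨c₁, hc⟩ : Sc E u)).hom, Iso.hom_inv_id, hm]
  rw [e, Functor.map_comp, ← reassoc_of% AutSpace.sTheta_natural E m, hstep,
    ← Functor.map_comp_assoc, ← Functor.map_comp_assoc, Category.assoc, hm,
    CategoryTheory.Functor.map_id, Category.id_comp]

/-- Sections are automorphisms. -/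
def autEquiv (hE : IsEquivOver E) (u : Over U) : Sc E u ≃ Gerb.AutO (x.obj u) :=
  Equiv.ofBijective (aut h) ⟨aut_injective h hE, aut_surjective h hE⟩

end Groth.Agent.H14.Stab
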