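import Groth.Agent.H14.Stab.Space
import Groth.Agent.H14.Sep.Lft

/-!
# Stabilizer group schemes
-/

set_option autoImplicit false
set_option backward.isDefEq.respectTransparency false
set_option backward.isDefEq.respectTransparency.types false

universe u

open CategoryTheory CategoryTheory.Limits AlgebraicGeometry Opposite

noncomputable section

namespace Groth.Agent.H14.Stab

open Groth.Agent.Lib.AlgSpace
open Groth.Agent.Lib.AlgStack
open FibCat (IsEquivOver fp fpFst overCat toSelf diag inertia inertiaToBase)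
open AlgSt (RepByAlgSpWith IsAlgStack)
open AlgSp (Sp yon)

/-- The stabilizer of a field point is a group scheme locally of finite type. -/
theorem exists_grpScheme {S : Scheme.{u}} {J₀ : Precoverage Scheme.{u}} {𝒳 : AlgSt.Cat S}
    (h𝒳 : IsAlgStack J₀ 𝒳) (hΔ : RepByAlgSpWith AlgSp.IsQuasiSeparatedMor (diag (toSelf 𝒳)))
    {K : Type u} [Field K] (p : Spec (CommRingCat.of K) ⟶ S) (x : overCat (Over.mk p) ⥤ᵇ 𝒳) :
    ∃ (G : Over (Spec (CommRingCat.of K))) (_ : GrpObj G),
      LocallyOfFiniteType G.hom ∧ Nonempty (Gerb.AutRep x (Gerb.ptsGrp (Over.mk p) G)) := by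
  have h := h𝒳.isStack.1
  obtain ⟨A, E, hE, hγ⟩ := H14.Sep.Inertia.inertiaToBase_of_diag hΔ (Over.mk p) x
  obtain ⟨W, ⟨α₀⟩⟩ := (isRepresentable_fib h hE hγ).has_representation
  let e : (yon _).obj W ≅ Fib E := AlgSp.isoOfRepresentableBy α₀
  let P : (Over (Spec (CommRingCat.of K)))ᵒᵖ ⥤ GrpCat.{u} :=
    (bk (g := p)).op ⋙ autPsh h hE
  let ff : (yon (Spec (CommRingCat.of K))).FullyFaithful := Functor.FullyFaithful.ofFullyFaithful _
  let α : (P ⋙ forget _).RepresentableBy W :=
    { homEquiv := fun {T} => (ff.homEquiv.trans (e.homToEquiv (Z := (yon _).obj T))).trans (ptEquiv h hE T)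
      homEquiv_comp := fun {T T'} m a => by
        change ptEquiv h hE T ((yon _).map (m ≫ a) ≫ e.hom) =
          res h hE ((bk (g := p)).map m) (ptEquiv h hE T' ((yon _).map a ≫ e.hom))
        rw [Functor.map_comp, Category.assoc, ptEquiv_natural] }
  let gW : GrpObj W := GrpObj.ofRepresentableBy W P α
  let i := yonedaGrpObjIsoOfRepresentableBy W P α
  let fwd := Over.iteratedSliceForward (Over.mk p)
  let c : ∀ T : Over (Over.mk p), T ≅ (bk (g := p)).obj (fwd.obj T) := fun T =>
    Over.isoMk (Over.isoMk (Iso.refl _) (by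
      change 𝟙 _ ≫ T.hom.left ≫ p = T.left.hom
      rw [Category.id_comp]
      exact Over.w T.hom))
      (Over.OverMorphism.ext (Category.id_comp _))
  let r : Gerb.AutRep x (Gerb.ptsGrp (Over.mk p) W) :=
    { iso := fun T => (i.app (op (fwd.obj T))).groupIsoToMulEquiv.trans
        ((autPsh h hE).mapIso (c T).op).groupIsoToMulEquiv
      natural := fun {T' T} k a => by
        let σ := α.homEquiv a
        change (res h hE (c T').hom (α.homEquiv (fwd.map k ≫ a))).hom.1 ≫ x.map k =
          x.map k ≫ (res h hE (c T).hom σ).hom.1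
        rw [α.homEquiv_comp, ← cancel_mono (x.map (c T).hom), Category.assoc, Category.assoc, res_fac,
          ← Functor.map_comp]
        have hk : k ≫ (c T).hom = (c T').hom ≫ (bk (g := p)).map (fwd.map k) := by
          apply Over.OverMorphism.ext
          apply Over.OverMorphism.ext
          change k.left.left ≫ 𝟙 _ = 𝟙 _ ≫ k.left.left
          simp
        rw [hk, Functor.map_comp]
        change (res h hE (c T').hom (res h hE ((bk (g := p)).map (fwd.map k)) σ)).hom.1 ≫ _ = _
        rw [reassoc_of% res_fac h hE (c T').hom, res_fac h hE ((bk (g := p)).map (fwd.map k)),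
          ← Category.assoc, ← Functor.map_comp, ← hk, Functor.map_comp, Category.assoc] }
  refine ⟨W, gW, ?_, ⟨r⟩⟩
  obtain ⟨A', E', hE', hγ'⟩ :=
    H14.Sep.Inertia.inertiaToBase_of_diag (H14.Sep.Lft.diag_toSelf_lft h𝒳) (Over.mk p) x
  obtain ⟨i', hi'⟩ := AutSpace.exists_iso (U := Over.mk p) (G := W) E' r h hE'
  exact hγ' i'.inv (𝟙 _) (AutSpace.totπ (Over.mk p) W) (repWith_of_isIso _ _) (repWith_of_isIso _ _) (by
    rw [Category.comp_id, Iso.inv_comp_eq]; exact hi'.symm)

end Groth.Agent.H14.Stab
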