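import Groth.Agent.H14.Stab.Aut
import Groth.Agent.H14.Sep.SpProps
import Groth.Agent.Lib.Restrict.Slice
import Groth.Agent.S10423
import Groth.Agent.S10127
import Groth.Agent.S10120
import Mathlib.CategoryTheory.Monoidal.Cartesian.Grp
import Mathlib.CategoryTheory.Monoidal.Cartesian.Over
import Mathlib.Algebra.Group.TransferInstance

/-!
# The stabilizer of a field point is a scheme
-/

set_option autoImplicit false
set_option backward.isDefEq.respectTransparency false
set_option backward.isDefEq.respectTransparency.types false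

universe u

open CategoryTheory CategoryTheory.Limits AlgebraicGeometry Opposite

noncomputable section

namespace Groth.Agent.H14.Stab

open Groth.Agent.Lib.AlgSpace
open Groth.Agent.Lib.AlgStack
open Groth.Agent.Lib.Restrict
open FibCat (IsEquivOver IsFibGrpd fp fpFst overCat toSelf inertia inertiaToBase)
open AlgSt (ofSp)
open AlgSp (Sp yon IsAlgSpace RepWith)

variable {S : Scheme.{u}} {𝒳 : AlgSt.Cat S}

section presheaf

variable {U : Over S} {x : overCat U ⥤ᵇ 𝒳} {A : AlgSp.Space S}
  {E : ofSp A.obj ⥤ᵇ fp x (inertiaToBase (toSelf 𝒳))} (h : IsFibGrpd 𝒳.p) (hE : IsEquivOver E)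

/-- Restriction of automorphisms. -/
def res {u' u : Over U} (k : u' ⟶ u) (σ : Gerb.AutO (x.obj u)) : Gerb.AutO (x.obj u') :=
  autEquiv h hE u' (restr k ((autEquiv h hE u).symm σ))

theorem res_fac {u' u : Over U} (k : u' ⟶ u) (σ : Gerb.AutO (x.obj u)) :
    (res h hE k σ).hom.1 ≫ x.map k = x.map k ≫ σ.hom.1 := by
  have := aut_natural h k ((autEquiv h hE u).symm σ)
  rw [show aut h ((autEquiv h hE u).symm σ) = σ from (autEquiv h hE u).apply_symm_apply σ] at this
  exact this

theorem res_mul {u' u : Over U} (k : u' ⟶ u) (σ τ : Gerb.AutO (x.obj u)) :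
    res h hE k (σ * τ) = res h hE k σ * res h hE k τ := by
  refine aut_ext h k _ _ ((res_fac h hE k (σ * τ)).trans ?_)
  change x.map k ≫ τ.hom.1 ≫ σ.hom.1 = ((res h hE k τ).hom.1 ≫ (res h hE k σ).hom.1) ≫ x.map k
  rw [Category.assoc, res_fac, reassoc_of% res_fac h hE k τ]

/-- The automorphism presheaf of a point. -/
def autPsh : (Over U)ᵒᵖ ⥤ GrpCat.{u} where
  obj u := GrpCat.of (Gerb.AutO (x.obj u.unop))
  map k := GrpCat.ofHom (MonoidHom.mk' (res h hE k.unop) (res_mul h hE k.unop))
  map_id u := GrpCat.hom_ext <| MonoidHom.ext fun σ => by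
    refine aut_ext h (𝟙 u.unop) _ _ ((res_fac h hE (𝟙 u.unop) σ).trans ?_)
    rw [CategoryTheory.Functor.map_id, Category.id_comp]
    exact (Category.comp_id _).symm
  map_comp {u v w} k l := GrpCat.hom_ext <| MonoidHom.ext fun σ => by
    refine aut_ext h (l.unop ≫ k.unop) _ _ ((res_fac h hE (l.unop ≫ k.unop) σ).trans ?_)
    change x.map (l.unop ≫ k.unop) ≫ σ.hom.1 =
      (res h hE l.unop (res h hE k.unop σ)).hom.1 ≫ x.map (l.unop ≫ k.unop)
    rw [Functor.map_comp, Category.assoc, reassoc_of% res_fac h hE l.unop, res_fac h hE k.unop]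

end presheaf

section space

variable {K : Type u} [Field K] {g : Spec (CommRingCat.of K) ⟶ S}
  {x : overCat (Over.mk g) ⥤ᵇ 𝒳} {A : AlgSp.Space S}
  {E : ofSp A.obj ⥤ᵇ fp x (inertiaToBase (toSelf 𝒳))}

/-- An object over the field as an object of the slice. -/
def bk : Over (Spec (CommRingCat.of K)) ⥤ Over (Over.mk g) where
  obj T := Over.mk (str g T)
  map {T T'} m := Over.homMk ((Over.map g).map m) (Over.OverMorphism.ext (Over.w m))

variable (E) in
/-- The automorphism space as a sheaf over the field. -/
def Fib : Sp (Spec (CommRingCat.of K)) :=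
  pullback ((jinv g).map (AutSpace.gam E)) (sect g)

theorem isPullback_fib : IsPullback (pullback.fst _ _ : Fib E ⟶ _) (pullback.snd _ _)
    ((jinv g).map (AutSpace.gam E)) (sect g) :=
  IsPullback.of_hasPullback _ _

/-- Points of the sheaf over the field. -/
def fibEquiv (T : Over (Spec (CommRingCat.of K))) :
    ((yon _).obj T ⟶ Fib E) ≃ Sc E ((bk (g := g)).obj T) where
  toFun a := ⟨adjT (a ≫ pullback.fst _ _), by
    rw [← adjT_comp, Category.assoc]
    have e := (congrArg (a ≫ ·) (isPullback_fib (E := E)).w).trans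
      (Category.assoc a (pullback.snd _ _) (sect g)).symm
    exact (congrArg adjT e).trans (adjT_sect g _)⟩
  invFun c := (isPullback_fib (E := E)).lift (adjT.symm c.1)
    ((yon _).map (Over.mkIdTerminal.from T)) (adjT.injective (by
      rw [adjT_comp, Equiv.apply_symm_apply, adjT_sect]; exact c.2))
  left_inv a := (isPullback_fib (E := E)).hom_ext
    (by rw [IsPullback.lift_fst]; exact adjT.symm_apply_apply _) (pt_hom_ext _ _)
  right_inv c := Subtype.ext (by
    change adjT ((isPullback_fib (E := E)).lift _ _ _ ≫ pullback.fst _ _) = c.1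
    rw [IsPullback.lift_fst]; exact Equiv.apply_symm_apply _ _)

theorem fibEquiv_natural {T T' : Over (Spec (CommRingCat.of K))} (m : T' ⟶ T)
    (a : (yon _).obj T ⟶ Fib E) :
    fibEquiv T' ((yon _).map m ≫ a) = restr ((bk (g := g)).map m) (fibEquiv T a) :=
  Subtype.ext ((congrArg adjT (Category.assoc _ _ _)).trans (adjT_map m _))

variable (h : IsFibGrpd 𝒳.p) (hE : IsEquivOver E)

/-- Points of the sheaf over the field are automorphisms. -/
def ptEquiv (T : Over (Spec (CommRingCat.of K))) :
    ((yon _).obj T ⟶ Fib E) ≃ Gerb.AutO (x.obj ((bk (g := g)).obj T)) :=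
  (fibEquiv T).trans (autEquiv h hE _)

theorem ptEquiv_natural {T T' : Over (Spec (CommRingCat.of K))} (m : T' ⟶ T)
    (a : (yon _).obj T ⟶ Fib E) :
    ptEquiv h hE T' ((yon _).map m ≫ a) = res h hE ((bk (g := g)).map m) (ptEquiv h hE T a) := by
  refine (congrArg (autEquiv h hE _) (fibEquiv_natural m a)).trans ?_
  simp only [res, ptEquiv, Equiv.trans_apply, Equiv.symm_apply_apply]

/-- The structure map. -/
abbrev toBase : Over ((yon (Spec (CommRingCat.of K))).obj (Over.mk (𝟙 _))) :=
  Over.mk (pullback.snd ((jinv g).map (AutSpace.gam E)) (sect g))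

/-- Compatible families of automorphisms along the points of a sheaf. -/
def families (Y : Over ((yon (Spec (CommRingCat.of K))).obj (Over.mk (𝟙 _)))) :
    Subgroup (∀ (T : Over (Spec (CommRingCat.of K))), ((yon _).obj T ⟶ Y.left) →
      Gerb.AutO (x.obj ((bk (g := g)).obj T))) where
  carrier := {φ | ∀ (T T' : Over (Spec (CommRingCat.of K))) (m : T' ⟶ T) c,
    φ T' ((yon _).map m ≫ c) = res h hE ((bk (g := g)).map m) (φ T c)}
  mul_mem' {φ ψ} hφ hψ T T' m c := by
    change φ T' _ * ψ T' _ = res h hE _ (φ T c * ψ T c)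
    rw [res_mul, hφ, hψ]
  one_mem' T T' m c := (map_one (MonoidHom.mk' (res h hE ((bk (g := g)).map m))
    (res_mul h hE _))).symm
  inv_mem' {φ} hφ T T' m c := by
    change (φ T' _)⁻¹ = res h hE _ (φ T c)⁻¹
    rw [hφ]
    exact (map_inv (MonoidHom.mk' (res h hE ((bk (g := g)).map m)) (res_mul h hE _)) (φ T c)).symm

/-- The presheaf of compatible families. -/
def famPsh : (Over ((yon (Spec (CommRingCat.of K))).obj (Over.mk (𝟙 _))))ᵒᵖ ⥤ GrpCat.{u+1} where
  obj Y := GrpCat.of (families h hE Y.unop)
  map {Y Z} k := GrpCat.ofHom (MonoidHom.mk'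
    (fun φ => ⟨fun T c => φ.1 T (c ≫ k.unop.left), fun T T' m c => by
      change φ.1 T' (((yon _).map m ≫ c) ≫ _) = _
      rw [Category.assoc]; exact φ.2 T T' m _⟩)
    (fun φ ψ => rfl))
  map_id Y := GrpCat.hom_ext <| MonoidHom.ext fun φ => Subtype.ext <| funext fun T => funext fun c =>
    congrArg (φ.1 T) (Category.comp_id c)
  map_comp k l := GrpCat.hom_ext <| MonoidHom.ext fun φ => Subtype.ext <| funext fun T => funext fun c =>
    congrArg (φ.1 T) (Category.assoc c _ _).symm

/-- The sheaf represents the compatible families. -/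
def famRep : (famPsh h hE ⋙ forget _).RepresentableBy (toBase (E := E)) where
  homEquiv {Y} :=
    { toFun := fun f => ⟨fun T c => ptEquiv h hE T (c ≫ f.left), fun T T' m c =>
        (congrArg (ptEquiv h hE T') (Category.assoc _ _ _)).trans (ptEquiv_natural h hE m _)⟩
      invFun := fun φ => Over.homMk
        (homMkYon (fun T c => (ptEquiv h hE T).symm (φ.1 T c)) (fun {T T'} m c => by
          apply (ptEquiv h hE T').injective
          rw [Equiv.apply_symm_apply, ptEquiv_natural, Equiv.apply_symm_apply]
          exact φ.2 T T' m c))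
        (Lib.AlgSpace.hom_ext fun T c => pt_hom_ext _ _)
      left_inv := fun f => Over.OverMorphism.ext (Lib.AlgSpace.hom_ext fun T c =>
        (comp_homMkYon _ _ c).trans ((ptEquiv h hE T).symm_apply_apply _))
      right_inv := fun φ => Subtype.ext <| funext fun T => funext fun c =>
        (congrArg (ptEquiv h hE T) (comp_homMkYon _ _ c)).trans ((ptEquiv h hE T).apply_symm_apply _) }
  homEquiv_comp {Y Y'} k f := Subtype.ext <| funext fun T => funext fun c =>
    congrArg (ptEquiv h hE T) (Category.assoc c _ _).symm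

include h hE in
/-- The automorphism space of a field point with quasi-separated structure map is a scheme. -/
theorem isRepresentable_fib (hqs : AlgSp.IsQuasiSeparatedMor (AutSpace.gam E)) :
    (Fib E).obj.IsRepresentable := by
  have hA : IsAlgSpace A.obj := A.property
  have hF : IsAlgSpace (Fib E) := isAlgSpace_fibre isPullback_fib hA
  letI := GrpObj.ofRepresentableBy (toBase (E := E)) (famPsh h hE) (famRep h hE)
  have hq : AlgSp.IsQuasiSeparatedMor (pullback.snd ((jinv g).map (AutSpace.gam E)) (sect g)) := by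
    refine repWith_baseChange (Sep.SpProps.isPullback_diagonal (isPullback_fib (E := E))) ?_
    have e : pullback.diagonal ((jinv g).map (AutSpace.gam E)) =
        (jinv g).map (pullback.diagonal (AutSpace.gam E)) ≫
          (PreservesPullback.iso (jinv g) (AutSpace.gam E) (AutSpace.gam E)).hom := by
      apply pullback.hom_ext
      · rw [pullback.diagonal_fst, Category.assoc, PreservesPullback.iso_hom_fst, ← Functor.map_comp,
          pullback.diagonal_fst, CategoryTheory.Functor.map_id]
      · rw [pullback.diagonal_snd, Category.assoc, PreservesPullback.iso_hom_snd, ← Functor.map_comp,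
          pullback.diagonal_snd, CategoryTheory.Functor.map_id]
    change RepWith @QuasiCompact _
    rw [e]
    exact repWith_comp (repWith_jinv hqs) (repWith_of_isIso _ _)
  have hd : AlgSp.IsDecent (Fib E) :=
    ((S10423.result (X := ⟨Fib E, hF⟩) (Y := ⟨_, IsAlgSpace.yon_obj (Over.mk (𝟙 _))⟩)
      (ObjectProperty.homMk (pullback.snd _ _))).2 hq) (𝟙 _) (𝟙 (Fib E))
      (pullback.snd ((jinv g).map (AutSpace.gam E)) (sect g))
      (IsPullback.of_horiz_isIso ⟨by simp⟩)
  exact S10120.result K (toBase (E := E)) hF (S10127.result K (toBase (E := E)) hF hd)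

end space

end Groth.Agent.H14.Stab
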